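import Cfsg.Agent.H381.Cover_m3
import Cfsg.Agent.H389.Small
import Cfsg.Agent.Walter.LastCase_mg_m3
import Cfsg.Agent.FastGrp
import Cfsg.Agent.Prune
set_option linter.all false
prune_inst 0x7f00000000000000000000000000000000000000000000000000000000000000000000000000000000000000000000000000000000000000000000000000000000000000000000000000000000000000003fffffffffffffffffffffffffffbeffbdffffffff
open scoped Cfsg.Agent.FastGrp

/-!
# Fixed points of involutions on odd normal subgroups; diagonals; components (helper389)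
-/

set_option autoImplicit false

namespace Cfsg.Agent.H389.JSq

open Subgroup Cfsg
open Cfsg.Agent.SignalizersComponents
open Cfsg.Agent.SignalizersComponents.Components
open Cfsg.Agent.Walter

section diag

variable {X : Type*} [Group X]

/-- **diagonals**: if the conjugates of `M` under the nontrivial powers of `x` commute with `M`, then for every `n ∈ M`
there is `c ∈ C(M)` such that `n c` commutes with `x`. -/
theorem diag {M : Subgroup X} {x : X} {p : ℕ} (hp : 0 < p) (hx : x ^ p = 1)
    (hM : ∀ j, 0 < j → j < p → ∀ n ∈ M, x ^ j * n * (x ^ j)⁻¹ ∈ centralizer (M : Set X)) {n : X}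
    (hn : n ∈ M) : ∃ c ∈ centralizer (M : Set X), Commute x (n * c) := by
  have key : ∀ j, 0 < j → j ≤ p → ∃ c ∈ centralizer (M : Set X), (n * x) ^ j = n * c * x ^ j := by
    intro j
    induction j with
    | zero => intro h; omega
    | succ k ih =>
      intro _ hk
      rcases Nat.eq_zero_or_pos k with rfl | hk0
      · exact ⟨1, one_mem _, by simp⟩
      · obtain ⟨c, hc, h⟩ := ih hk0 (by omega)
        refine ⟨c * (x ^ k * n * (x ^ k)⁻¹), mul_mem hc (hM k hk0 (by omega) n hn), ?_⟩
        rw [pow_succ (n * x), h, pow_succ x]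
        group
  obtain ⟨c, hc, h⟩ := key p hp le_rfl
  rw [hx, mul_one] at h
  refine ⟨c, hc, ?_⟩
  have h1 : Commute (n * x) (n * c) := by
    rw [← h]; exact (Commute.refl _).pow_right p
  have h2 : Commute n (n * c) := by
    refine (Commute.refl n).mul_right ?_
    exact mem_centralizer_iff.mp hc n hn
  have h3 : Commute (n⁻¹ * (n * x)) (n * c) := h2.inv_left.mul_left h1
  rwa [inv_mul_cancel_left] at h3

/-- the order of `n c` -/
theorem dvd_orderOf_diag {M : Subgroup X} {n c : X} (hn : n ∈ M)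
    (hc : c ∈ centralizer (M : Set X)) (h : ∀ k : ℕ, n ^ k ∈ centralizer (M : Set X) → n ^ k = 1) :
    orderOf n ∣ orderOf (n * c) := by
  rw [orderOf_dvd_iff_pow_eq_one]
  apply h
  have h1 : Commute n c := mem_centralizer_iff.mp hc n hn
  have h2 := pow_orderOf_eq_one (n * c)
  rw [h1.mul_pow] at h2
  rw [mul_eq_one_iff_eq_inv.mp h2]
  exact inv_mem (pow_mem hc _)

end diag

section cpk

variable {G : Type*} [Group G] [Finite G]

/-- **involutions with fixed points on a normal subgroup of odd order** -/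
theorem cpk (hcl : Cl G) (K : Subgroup G) [K.Normal] (hK : Odd (Nat.card K)) {p : ℕ} (hp : p.Prime)
    (hpK : p ∣ Nat.card K) (H : Subgroup G) (hKH : K ≤ H) (h4 : 4 ∣ Nat.card H) :
    ∃ e ∈ H, orderOf e = 2 ∧ ∃ v ∈ K, orderOf v = p ∧ Commute e v := by
  have hpf : Fact p.Prime := ⟨hp⟩
  have h2f : Fact (Nat.Prime 2) := ⟨Nat.prime_two⟩
  obtain ⟨P0⟩ : Nonempty (Sylow p K) := inferInstance
  set P : Subgroup G := (P0 : Subgroup K).map K.subtype with hP
  have hPK : P ≤ K := map_subtype_le _
  have hPp : IsPGroup p P := P0.2.map K.subtype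
  have hPcard : Nat.card P = Nat.card (P0 : Subgroup K) :=
    (Nat.card_congr ((P0 : Subgroup K).equivMapOfInjective _ K.subtype_injective).toEquiv).symm
  have hP1 : P ≠ ⊥ := by
    intro h
    have h1 := P0.dvd_card_of_dvd_card hpK
    rw [← hPcard, h, Subgroup.card_bot] at h1
    exact hp.one_lt.ne' (Nat.dvd_one.mp h1)
  have hfr : normalizer (P : Set G) ⊔ K = ⊤ := Sylow.normalizer_sup_eq_top P0
  set N : Subgroup G := normalizer (P : Set G) ⊓ H with hN
  have hHN : K ⊔ N = H := by
    apply le_antisymm (sup_le hKH inf_le_right)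
    intro h hh
    have h1 : h ∈ K ⊔ normalizer (P : Set G) := by rw [sup_comm, hfr]; exact mem_top h
    obtain ⟨k, hk, n, hn, rfl⟩ := mem_sup_of_normal_left.mp h1
    refine mul_mem_sup hk ⟨hn, ?_⟩
    have h2 : k⁻¹ * (k * n) ∈ H := mul_mem (inv_mem (hKH hk)) hh
    rwa [inv_mul_cancel_left] at h2
  have hcard : Nat.card H ∣ Nat.card K * Nat.card N := by
    rw [← hHN]
    exact CoprimeBasic.card_sup_dvd (by rw [normalizer_eq_top_iff.2 inferInstance]; exact le_top)
  have h4N : 2 ^ 2 ∣ Nat.card N := by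
    have h1 : 2 ^ 2 ∣ Nat.card K * Nat.card N := h4.trans hcard
    exact (Nat.Coprime.pow_left 2 (Nat.coprime_two_left.mpr hK)).dvd_of_dvd_mul_left h1
  obtain ⟨E, hE⟩ := Sylow.exists_subgroup_card_pow_prime 2 h4N
  have hE2 : ∀ x ∈ E, (x : G) ^ 2 = 1 := by
    intro x hx
    have h1 : IsPGroup 2 E := IsPGroup.of_card hE
    have h2 : IsPGroup 2 (E.map N.subtype) := h1.map N.subtype
    exact hcl.pow_eq_one Nat.prime_two h2 ⟨x, hx, rfl⟩
  have hEne : E ≠ ⊥ := by
    rintro rfl
    rw [Subgroup.card_bot] at hE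
    norm_num at hE
  obtain ⟨⟨a, ha⟩, ha1⟩ := Subgroup.ne_bot_iff_exists_ne_one.mp hEne
  have ha1' : (a : G) ≠ 1 := by
    intro h
    apply ha1
    exact Subtype.ext (Subtype.ext h)
  have hao : orderOf (a : G) = 2 := orderOf_eq_prime (hE2 a ha) ha1'
  obtain ⟨b, hb, hba⟩ : ∃ b ∈ E, (b : G) ∉ zpowers (a : G) := by
    by_contra hcon
    push Not at hcon
    have h1 : E.map N.subtype ≤ zpowers (a : G) := by
      rintro _ ⟨b, hb, rfl⟩
      exact hcon b hb
    have h2 := card_dvd_of_le h1
    rw [Nat.card_zpowers, hao, ← Nat.card_congr (E.equivMapOfInjective _ N.subtype_injective).toEquiv,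
      hE] at h2
    revert h2; decide
  have hbo : orderOf (b : G) = 2 := by
    refine orderOf_eq_prime (hE2 b hb) ?_
    intro h
    rw [h] at hba
    exact hba (one_mem _)
  have hab : Commute (a : G) b := by
    have h1 : IsPGroup 2 (E.map N.subtype) := (IsPGroup.of_card hE).map N.subtype
    exact hcl.two_comm h1 _ ⟨a, ha, rfl⟩ _ ⟨b, hb, rfl⟩
  have h2P : ¬ 2 ∣ Nat.card P := by
    intro h
    have h1 := h.trans (card_dvd_of_le hPK)
    exact (Nat.not_even_iff_odd.mpr hK) (even_iff_two_dvd.mpr h1)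
  obtain ⟨e, he, heo, hfix⟩ := H381.Tools.exists_fixed Nat.prime_two hao hbo hab hba P h2P hP1
    a.2.1 b.2.1
  obtain ⟨v, hv, hvp⟩ := H381.Tools.exists_mem_of_ne_bot hp (hPp.to_le inf_le_left) hfix
  rw [H381.Tools.mem_fix] at hv
  refine ⟨e, ?_, heo, v, hPK hv.1, hvp, hv.2⟩
  have h1 : zpowers (a : G) ⊔ zpowers (b : G) ≤ H := by
    rw [sup_le_iff, zpowers_le, zpowers_le]
    exact ⟨a.2.2, b.2.2⟩
  exact h1 he

end cpk

section comp

universe u

variable {X : Type u} [Group X] [Finite X]

/-- the class of groups with trivial odd core -/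
structure Ctx (X : Type u) [Group X] : Prop where
  cl : Cl X
  core : pPrimeCore 2 X = ⊥

namespace Ctx

variable (C : Ctx X)
include C

theorem sylow_comm (S : Sylow 2 X) : ∀ a ∈ (S : Subgroup X), ∀ b ∈ (S : Subgroup X), a * b = b * a :=
  C.cl.two_comm S.2

theorem inf_centralizer {K : Subgroup X} (hK : IsComponent K) : K ⊓ centralizer (K : Set X) = ⊥ := by
  have : Fact (Nat.Prime 2) := ⟨Nat.prime_two⟩
  obtain ⟨S⟩ : Nonempty (Sylow 2 X) := inferInstance
  exact AbStruct.inf_centralizer C.core (C.sylow_comm S) hK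

theorem simple {K : Subgroup X} (hK : IsComponent K) : IsSimpleGroup K := by
  have : Fact (Nat.Prime 2) := ⟨Nat.prime_two⟩
  obtain ⟨S⟩ : Nonempty (Sylow 2 X) := inferInstance
  exact AbStruct.isSimpleGroup C.core (C.sylow_comm S) hK

omit C in
theorem not_comm {K : Subgroup X} (hK : IsComponent K) : ¬ IsMulCommutative K :=
  AbStruct.not_comm hK

omit [Finite X] C in
theorem comm_of_ne {K L : Subgroup X} (hK : IsComponent K) (hL : IsComponent L) (h : K ≠ L) :
    K ≤ centralizer (L : Set X) := by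
  have h1 := Cfsg.Agent.S1270.component_comm_of_ne hK hL h
  rwa [commutator_eq_bot_iff_le_centralizer] at h1

omit [Finite X] C in
theorem mem_normalizer_of_map {K : Subgroup X} {g : X} (h : K.map (MulAut.conj g).toMonoidHom = K) :
    g ∈ normalizer (K : Set X) := BalanceAux.mem_normalizer_of_map_conj_eq h

omit [Finite X] C in
/-- conjugates of a component under an element not normalising it -/
theorem conj_mem_centralizer {K : Subgroup X} (hK : IsComponent K) {g : X}
    (hg : g ∉ normalizer (K : Set X)) {n : X} (hn : n ∈ K) :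
    g * n * g⁻¹ ∈ centralizer (K : Set X) := by
  have h1 : IsComponent (K.map (MulAut.conj g).toMonoidHom) := isComponent_conj g hK
  have h2 := comm_of_ne h1 hK (fun h => hg (mem_normalizer_of_map h))
  exact h2 ⟨n, hn, rfl⟩

end Ctx

/-- the conjugation action of an element normalising `K` -/
theorem commute_of_aut {K : Subgroup X} (hK : Nat.card K = 60 ∨ Nat.card K = 660) {p : ℕ}
    (hp : p ∈ pi) (hpK : ¬ p ∣ Nat.card K) {x : X} (hx : orderOf x = p)
    (hxN : x ∈ normalizer (K : Set X)) : x ∈ centralizer (K : Set X) := by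
  have hp' : p = 7 ∨ p = 11 ∨ p = 19 := by
    revert hp; simp [pi]
  let ψ : normalizer (K : Set X) →* MulAut K := Subgroup.normalizerMonoidHom K
  have h1 : ψ ⟨x, hxN⟩ ^ p = 1 := by
    rw [← map_pow]
    have : (⟨x, hxN⟩ : normalizer (K : Set X)) ^ p = 1 := by
      apply Subtype.ext
      show x ^ p = 1
      rw [← hx]; exact pow_orderOf_eq_one x
    rw [this, map_one]
  have h2 := Small.aut_trivial hK hp' hpK h1
  have h3 : (⟨x, hxN⟩ : normalizer (K : Set X)) ∈ ψ.ker := h2
  rw [Subgroup.normalizerMonoidHom_ker] at h3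
  exact mem_subgroupOf.mp h3

omit [Finite X] in
theorem pow_not_mem_normalizer {K : Subgroup X} {x : X} {p : ℕ} (hp : p.Prime) (hx : orderOf x = p)
    (hxN : x ∉ normalizer (K : Set X)) {j : ℕ} (hj : 0 < j) (hjp : j < p) :
    x ^ j ∉ normalizer (K : Set X) := by
  intro h
  apply hxN
  have hc : j.Coprime (orderOf x) := by
    rw [hx]
    exact ((Nat.Prime.coprime_iff_not_dvd hp).mpr (fun h => by
      have := Nat.le_of_dvd hj h
      omega)).symm
  obtain ⟨u, hu⟩ := exists_pow_eq_self_of_coprime hc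
  rw [← hu]
  exact pow_mem h u

namespace Ctx

variable (C : Ctx X)
include C

/-- `x` of order `p = 7, 11, 19` commutes with an element of prime order `m` dividing `|K|`, `K` a component of order
60 or 660 prime to `p` -/
theorem has_pair {K : Subgroup X} (hK : IsComponent K) (hc : Nat.card K = 60 ∨ Nat.card K = 660)
    {p : ℕ} (hp : p ∈ pi) (hpK : ¬ p ∣ Nat.card K) (hpX : p ∣ Nat.card X) {m : ℕ} (hm : m.Prime)
    (hmK : m ∣ Nat.card K) : Has X (p * m) := by
  have hpp := pi_prime hp
  have hpm : p ≠ m := by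
    rintro rfl
    exact hpK hmK
  obtain ⟨x, hx⟩ := Has.of_prime_dvd hpp hpX
  obtain ⟨n, hn, hno⟩ := H381.Tools.exists_mem_of_dvd hm hmK
  have hcop : p.Coprime m := (Nat.coprime_primes hpp hm).mpr hpm
  by_cases hxN : x ∈ normalizer (K : Set X)
  · have h1 := commute_of_aut hc hp hpK hx hxN
    have h2 : Commute x n := (mem_centralizer_iff.mp h1 n hn).symm
    exact Has.of_commute h2 hx hno hcop
  · obtain ⟨c, hc', hxc⟩ := diag (M := K) (x := x) hpp.pos (by rw [← hx]; exact pow_orderOf_eq_one x)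
      (fun j hj hjp n hn => conj_mem_centralizer hK (pow_not_mem_normalizer hpp hx hxN hj hjp) hn) hn
    have h1 := dvd_orderOf_diag hn hc' (by
      intro k hk
      have h2 : n ^ k ∈ K ⊓ centralizer (K : Set X) := ⟨pow_mem hn k, hk⟩
      rw [C.inf_centralizer hK] at h2
      exact h2)
    rw [hno] at h1
    exact Has.of_commute (hxc.pow_right _) hx (orderOf_pow_div' h1) hcop

end Ctx

end comp

end Cfsg.Agent.H389.JSq

private theorem dce_d558a3ad5dfb : _root_.True := by
  try have : _root_.True := by simp only [_root_.Cfsg.Agent.H389.JSq.pi.eq_1]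
  exact _root_.True.intro
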